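/-
Flatness over dual numbers and first-order liftings of ideals.
-/
import Groth.Prelude.Def_W4c6puncthilbintroLift
import Mathlib

set_option autoImplicit false

universe u v w

open TrivSqZeroExt DualNumber

namespace Groth.Agent.H27DualFlat

/-- A relation trivialised by coefficients indexed by a finite type is trivial. -/
lemma isTrivialRelation_of {A : Type u} [CommRing A] {M : Type v} [AddCommGroup M] [Module A M]
    {l : ℕ} {f : Fin l → A} {x : Fin l → M} {κ : Type w} [Fintype κ] (a : Fin l → κ → A) (y : κ → M)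
    (hx : ∀ i, x i = ∑ k, a i k • y k) (h : ∀ k, ∑ i, f i * a i k = 0) :
    Module.IsTrivialRelation f x := by
  let e := (Fintype.equivFin κ).symm
  refine ⟨Fintype.card κ, fun i m => a i (e m), fun m => y (e m), fun i => ?_, fun m => h (e m)⟩
  rw [hx i]
  exact (e.sum_comp fun k => a i k • y k).symm

variable {A : Type u} [CommRing A]

/-- Flatness over `A[ε]` from flatness of the reduction and `Ann ε = εM`. -/
theorem flat_dualNumber {M : Type v} [AddCommGroup M] [Module (DualNumber A) M]
    {Q : Type v} [AddCommGroup Q] [Module A Q] [Module.Flat A Q] (π : M →+ Q)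
    (hπ : Function.Surjective π) (hsmul : ∀ (a : A) (x : M), π ((inl a : DualNumber A) • x) = a • π x)
    (hker : ∀ x, π x = 0 → ∃ z, x = (ε : DualNumber A) • z)
    (hε : ∀ x, (ε : DualNumber A) • x = 0 → π x = 0) : Module.Flat (DualNumber A) M := by
  have hπε : ∀ z, π ((ε : DualNumber A) • z) = 0 := fun z => hε _ (by rw [smul_smul, eps_mul_eps, zero_smul])
  have hdec : ∀ f : DualNumber A, f = inl f.fst + inl f.snd * ε := fun f => by
    ext <;> simp
  refine Module.Flat.of_forall_isTrivialRelation fun {l f x} hfx => ?_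
  have h0 : ∑ i, (f i).fst • π (x i) = 0 := by
    have := congrArg π hfx
    rw [map_zero, map_sum] at this
    rw [← this]
    refine Finset.sum_congr rfl fun i _ => ?_
    conv_rhs => rw [hdec (f i), add_smul, map_add, mul_comm, mul_smul, hπε, add_zero, hsmul]
  obtain ⟨k₁, g, y₀, hxy, hg⟩ := Module.Flat.isTrivialRelation_of_sum_smul_eq_zero h0
  choose y hy using fun j => hπ (y₀ j)
  have hz : ∀ i, ∃ z, x i = ∑ j, (inl (g i j) : DualNumber A) • y j + (ε : DualNumber A) • z := by
    intro i
    obtain ⟨z, hz⟩ := hker (x i - ∑ j, (inl (g i j) : DualNumber A) • y j) (by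
      rw [map_sub, map_sum, sub_eq_zero, show π (x i) = _ from hxy i]
      exact Finset.sum_congr rfl fun j _ => by rw [hsmul, hy])
    exact ⟨z, by rw [← hz]; abel⟩
  choose z hz using hz
  let c : Fin k₁ → A := fun j => ∑ i, (f i).snd * g i j
  have hfg : ∀ j, ∑ i, f i * inl (g i j) = inl (c j) * ε := by
    intro j
    have e : ∀ i, f i * inl (g i j) = inl ((f i).fst * g i j) + inl ((f i).snd * g i j) * ε :=
      fun i => by ext <;> simp [mul_comm]
    simp only [e, Finset.sum_add_distrib, ← Finset.sum_mul, ← map_sum (inlHom A A), c]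
    rw [show ∑ i, (inl ((f i).fst * g i j) : DualNumber A) = inlHom A A (∑ i, (f i).fst * g i j) from
      (map_sum (inlHom A A) _ _).symm, hg j, map_zero, zero_add,
      show ∑ i, (inl ((f i).snd * g i j) : DualNumber A) = inlHom A A (∑ i, (f i).snd * g i j) from
      (map_sum (inlHom A A) _ _).symm]
    rfl
  have hfε : ∀ i, f i * (ε : DualNumber A) = inl (f i).fst * ε := fun i => by ext <;> simp
  have hw : (ε : DualNumber A) • (∑ j, (inl (c j) : DualNumber A) • y j +
      ∑ i, (inl (f i).fst : DualNumber A) • z i) = 0 := by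
    rw [← hfx]
    simp only [hz, smul_add, Finset.sum_add_distrib, Finset.smul_sum, smul_smul]
    congr 1
    · rw [Finset.sum_comm]
      refine Finset.sum_congr rfl fun j _ => ?_
      rw [← Finset.sum_smul, hfg, mul_comm]
    · exact Finset.sum_congr rfl fun i _ => by rw [hfε, mul_comm]
  have h1 : ∑ s : Fin k₁ ⊕ Fin l, Sum.elim c (fun i => (f i).fst) s •
      Sum.elim y₀ (fun i => π (z i)) s = 0 := by
    rw [Fintype.sum_sum_type]
    have := hε _ hw
    rw [map_add, map_sum, map_sum] at this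
    simpa [hsmul, hy] using this
  obtain ⟨k₂, h, w₀, hw₀, hh⟩ := Module.Flat.isTrivialRelation_of_sum_smul_eq_zero h1
  choose w hw' using fun k => hπ (w₀ k)
  have hy' : ∀ j, ∃ u, y j = ∑ k, (inl (h (Sum.inl j) k) : DualNumber A) • w k +
      (ε : DualNumber A) • u := by
    intro j
    obtain ⟨u, hu⟩ := hker (y j - ∑ k, (inl (h (Sum.inl j) k) : DualNumber A) • w k) (by
      rw [map_sub, map_sum, sub_eq_zero, hy, show y₀ j = _ from hw₀ (Sum.inl j)]
      exact Finset.sum_congr rfl fun k _ => by rw [hsmul, hw'])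
    exact ⟨u, by rw [← hu]; abel⟩
  have hz' : ∀ i, ∃ u, z i = ∑ k, (inl (h (Sum.inr i) k) : DualNumber A) • w k +
      (ε : DualNumber A) • u := by
    intro i
    obtain ⟨u, hu⟩ := hker (z i - ∑ k, (inl (h (Sum.inr i) k) : DualNumber A) • w k) (by
      rw [map_sub, map_sum, sub_eq_zero, show π (z i) = _ from hw₀ (Sum.inr i)]
      exact Finset.sum_congr rfl fun k _ => by rw [hsmul, hw'])
    exact ⟨u, by rw [← hu]; abel⟩
  choose u hu using hy'
  choose u' hu' using hz'
  refine isTrivialRelation_of (κ := Fin k₂ ⊕ Fin k₁)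
    (fun i => Sum.elim (fun k => ∑ j, inl (g i j) * inl (h (Sum.inl j) k) + ε * inl (h (Sum.inr i) k))
      (fun j => inl (g i j) * ε)) (Sum.elim w u) (fun i => ?_) ?_
  · rw [hz i, Fintype.sum_sum_type]
    simp only [Sum.elim_inl, Sum.elim_inr, hu, hu', smul_add, add_smul, Finset.smul_sum, smul_smul,
      Finset.sum_add_distrib, Finset.sum_smul, eps_mul_eps, zero_smul, add_zero]
    rw [Finset.sum_comm]
    abel
  · rintro (k | j)
    · simp only [Sum.elim_inl, mul_add, Finset.sum_add_distrib, Finset.mul_sum, ← mul_assoc]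
      rw [Finset.sum_comm]
      simp only [← Finset.sum_mul, hfg]
      have h2 := hh k
      rw [Fintype.sum_sum_type] at h2
      simp only [Sum.elim_inl, Sum.elim_inr] at h2
      have h3 := congrArg (fun t : A => (inlHom A A t) * (ε : DualNumber A)) h2
      simp only [map_add, map_sum, map_mul, map_zero, zero_mul, add_mul, Finset.sum_mul] at h3
      rw [← h3]
      congr 1
      · exact Finset.sum_congr rfl fun j _ => mul_right_comm _ _ _
      · refine Finset.sum_congr rfl fun i _ => ?_
        rw [hfε]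
        exact mul_right_comm _ _ _
    · simp only [Sum.elim_inr, ← mul_assoc, ← Finset.sum_mul, hfg]
      rw [mul_assoc, eps_mul_eps, mul_zero]

/-- In a flat module over dual numbers the annihilator of `ε` is divisible by `ε`. -/
theorem exists_eps_smul_of_flat {M : Type v} [AddCommGroup M] [Module (DualNumber A) M]
    [Module.Flat (DualNumber A) M] {x : M} (h : (ε : DualNumber A) • x = 0) :
    ∃ z, x = (ε : DualNumber A) • z := by
  obtain ⟨k, a, y, hx, ha⟩ := Module.Flat.isTrivialRelation_of_sum_smul_eq_zero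
    (ι := Fin 1) (f := fun _ => (ε : DualNumber A)) (x := fun _ => x) (by simpa using h)
  have hs : ∀ j, a 0 j = ε * inl (a 0 j).snd := fun j => by
    have h0 := congrArg TrivSqZeroExt.snd (by simpa using ha j : (ε : DualNumber A) * a 0 j = 0)
    simp at h0
    ext <;> simp [h0]
  refine ⟨∑ j, (inl (a 0 j).snd : DualNumber A) • y j, ?_⟩
  rw [show x = _ from hx 0, Finset.smul_sum]
  exact Finset.sum_congr rfl fun j _ => by rw [smul_smul, ← hs]

open W4c6puncthilbintro in
attribute [local instance] dualAlgebra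

section lifting

open W4c6puncthilbintro

variable {R : Type u} [CommRing R] [Algebra A R] (I : Ideal R)

lemma mem_liftIdeal {φ : I →ₗ[R] R ⧸ I} {x : DualNumber R} :
    x ∈ liftIdeal I φ ↔ ∃ h : x.fst ∈ I, Ideal.Quotient.mk I x.snd = φ ⟨x.fst, h⟩ := Iff.rfl

lemma algebraMap_inl (a : A) :
    algebraMap (DualNumber A) (DualNumber R) (inl a) = inl (algebraMap A R a) := dualMap_inl A R a

lemma algebraMap_eps : algebraMap (DualNumber A) (DualNumber R) ε = ε := dualMap_eps A R

lemma smul_mk (J : Ideal (DualNumber R)) (f : DualNumber A) (x : DualNumber R) :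
    f • Ideal.Quotient.mk J x = Ideal.Quotient.mk J (algebraMap (DualNumber A) (DualNumber R) f * x) := by
  rw [← Algebra.smul_def]
  rfl

lemma exists_snd_lift (φ : I →ₗ[R] R ⧸ I) {a : R} (ha : a ∈ I) :
    ∃ b, inl a + inr b ∈ liftIdeal I φ := by
  obtain ⟨b, hb⟩ := Ideal.Quotient.mk_surjective (φ ⟨a, ha⟩)
  exact ⟨b, (mem_liftIdeal I).mpr ⟨by simpa using ha, by simpa using hb⟩⟩

theorem flat_liftIdeal [Module.Flat A (R ⧸ I)] (φ : I →ₗ[R] R ⧸ I) :
    Module.Flat (DualNumber A) (DualNumber R ⧸ liftIdeal I φ) := by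
  let π : (DualNumber R ⧸ liftIdeal I φ) →+ R ⧸ I :=
    (Ideal.Quotient.lift (liftIdeal I φ) ((Ideal.Quotient.mk I).comp (fstHom A R R).toRingHom)
      fun x hx => by
        obtain ⟨h, -⟩ := (mem_liftIdeal I).mp hx
        exact Ideal.Quotient.eq_zero_iff_mem.mpr h).toAddMonoidHom
  have hmk : ∀ x, π (Ideal.Quotient.mk _ x) = Ideal.Quotient.mk I x.fst := fun x => rfl
  refine flat_dualNumber π (fun q => ?_) (fun a q => ?_) (fun q hq => ?_) (fun q hq => ?_)
  · obtain ⟨r, rfl⟩ := Ideal.Quotient.mk_surjective q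
    exact ⟨Ideal.Quotient.mk _ (inl r), by rw [hmk]; simp⟩
  · obtain ⟨x, rfl⟩ := Ideal.Quotient.mk_surjective q
    rw [smul_mk, hmk, hmk, algebraMap_inl]
    simp [Algebra.smul_def]
  · obtain ⟨x, rfl⟩ := Ideal.Quotient.mk_surjective q
    rw [hmk, Ideal.Quotient.eq_zero_iff_mem] at hq
    obtain ⟨b, hb⟩ := exists_snd_lift I φ hq
    refine ⟨Ideal.Quotient.mk _ (inl (x.snd - b)), ?_⟩
    rw [smul_mk, algebraMap_eps, Ideal.Quotient.eq]
    convert hb using 1
    ext <;> simp
  · obtain ⟨x, rfl⟩ := Ideal.Quotient.mk_surjective q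
    rw [smul_mk, algebraMap_eps,
      Ideal.Quotient.eq_zero_iff_mem, mem_liftIdeal] at hq
    obtain ⟨h, h'⟩ := hq
    rw [hmk]
    have h0 : (⟨(ε * x).fst, h⟩ : I) = 0 := Subtype.ext (by simp)
    rw [h0, map_zero] at h'
    simpa using h'

theorem map_fst_liftIdeal (φ : I →ₗ[R] R ⧸ I) :
    Ideal.map (fstHom A R R) (liftIdeal I φ) = I := by
  refine le_antisymm (Ideal.map_le_iff_le_comap.mpr fun x hx => ?_) fun a ha => ?_
  · exact ((mem_liftIdeal I).mp hx).1
  · obtain ⟨b, hb⟩ := exists_snd_lift I φ ha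
    have := Ideal.mem_map_of_mem (fstHom A R R) hb
    simpa using this

theorem liftIdeal_injective : Function.Injective (liftIdeal I) := by
  intro φ ψ h
  refine LinearMap.ext fun ⟨a, ha⟩ => ?_
  obtain ⟨b, hb⟩ := exists_snd_lift I φ ha
  have hb' := h ▸ hb
  obtain ⟨_, e1⟩ := (mem_liftIdeal I).mp hb
  obtain ⟨_, e2⟩ := (mem_liftIdeal I).mp hb'
  have := e1.symm.trans e2
  simpa using this

theorem exists_eq_liftIdeal (J : Ideal (DualNumber R))
    (hJ : Module.Flat (DualNumber A) (DualNumber R ⧸ J))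
    (hmap : Ideal.map (fstHom A R R) J = I) : ∃ φ : I →ₗ[R] R ⧸ I, J = liftIdeal I φ := by
  have hsurj : Function.Surjective (fstHom A R R) := fun r => ⟨inl r, by simp⟩
  have hlift : ∀ a ∈ I, ∃ b, inl a + inr b ∈ J := by
    intro a ha
    rw [← hmap, Ideal.mem_map_iff_of_surjective _ hsurj] at ha
    obtain ⟨x, hx, rfl⟩ := ha
    exact ⟨x.snd, by rw [show (fstHom A R R) x = x.fst from rfl, inl_fst_add_inr_snd_eq]; exact hx⟩
  have hfst : ∀ x ∈ J, x.fst ∈ I := fun x hx => hmap ▸ Ideal.mem_map_of_mem (fstHom A R R) hx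
  have hinr : ∀ b : R, (inr b : DualNumber R) ∈ J ↔ b ∈ I := by
    intro b
    constructor
    · intro hb
      have h0 : (ε : DualNumber A) • (Ideal.Quotient.mk J (inl b)) = 0 := by
        rw [smul_mk, algebraMap_eps,
          Ideal.Quotient.eq_zero_iff_mem]
        convert hb using 1
        ext <;> simp
      obtain ⟨q, hq⟩ := exists_eps_smul_of_flat (A := A) (M := DualNumber R ⧸ J) h0
      obtain ⟨z, rfl⟩ := Ideal.Quotient.mk_surjective q
      rw [smul_mk, algebraMap_eps,
        Ideal.Quotient.eq] at hq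
      have := hfst _ hq
      simpa using this
    · intro hb
      obtain ⟨c, hc⟩ := hlift b hb
      convert J.mul_mem_left (ε : DualNumber R) hc using 1
      ext <;> simp
  choose b hb using fun a : I => hlift a.1 a.2
  have key : ∀ (a : I) (c : R), inl a.1 + inr c ∈ J →
      Ideal.Quotient.mk I c = Ideal.Quotient.mk I (b a) := by
    intro a c hc
    rw [Ideal.Quotient.eq, ← hinr]
    convert J.sub_mem hc (hb a) using 1
    ext <;> simp
  let φ : I →ₗ[R] R ⧸ I :=
    { toFun := fun a => Ideal.Quotient.mk I (b a)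
      map_add' := fun a a' => (key (a + a') (b a + b a') (by
        convert J.add_mem (hb a) (hb a') using 1
        ext <;> simp)).symm.trans (map_add _ _ _)
      map_smul' := fun r a => (key (r • a) (r * b a) (by
        convert J.mul_mem_left (inl r) (hb a) using 1
        ext <;> simp)).symm }
  refine ⟨φ, Ideal.ext fun x => ?_⟩
  rw [mem_liftIdeal]
  constructor
  · intro hx
    refine ⟨hfst x hx, key ⟨x.fst, hfst x hx⟩ x.snd ?_⟩
    rw [inl_fst_add_inr_snd_eq]
    exact hx
  · rintro ⟨h, hx⟩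
    have : x.snd - b ⟨x.fst, h⟩ ∈ I := Ideal.Quotient.eq.mp hx
    convert J.add_mem (hb ⟨x.fst, h⟩) ((hinr _).mpr this) using 1
    ext <;> simp

end lifting

end Groth.Agent.H27DualFlat
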